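import Groth.Agent.EGA43.QcohFlat
import Groth.Agent.DCat.PerfTensor
import Groth.Agent.DCat.PullPerf
import Groth.Agent.Coherent.QcohOps
import Groth.Agent.Coherent.CohOps
import Mathlib.RingTheory.Flat.TorsionFree
import Mathlib.RingTheory.DiscreteValuationRing.Basic

/-!
# Flat extensions of quotients over a discrete valuation ring
-/

set_option autoImplicit false
set_option maxHeartbeats 1600000
set_option backward.isDefEq.respectTransparency false
set_option linter.style.haveILetI false

universe u

open CategoryTheory CategoryTheory.Limits AlgebraicGeometry TopologicalSpace nonZeroDivisors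

namespace Groth.Agent.H8Res

/-- The fraction field of a discrete valuation ring is an open subscheme. -/
theorem isOpenImmersion_fractionRing (R : Type u) [CommRing R] [IsDomain R] [IsDiscreteValuationRing R] :
    IsOpenImmersion (Spec.map (CommRingCat.ofHom (algebraMap R (FractionRing R)))) := by
  obtain ⟨p, hp⟩ := IsDiscreteValuationRing.exists_irreducible R
  haveI : IsLocalization.Away p (FractionRing R) := by
    refine (IsLocalization.iff_of_le_of_exists_dvd (Submonoid.powers p) R⁰ ?_ ?_).2
      (inferInstanceAs (IsLocalization R⁰ (FractionRing R)))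
    · exact powers_le_nonZeroDivisors_of_noZeroDivisors hp.ne_zero
    · intro a ha
      obtain ⟨n, hn⟩ := IsDiscreteValuationRing.associated_pow_irreducible (nonZeroDivisors.ne_zero ha) hp
      exact ⟨p ^ n, ⟨n, rfl⟩, hn.dvd⟩
  exact IsOpenImmersion.of_isLocalization p

/-- A quasi-coherent module on which nonzero scalars act injectively is flat over a Bezout domain. -/
theorem isFlatOver_of_forall_smul {R : CommRingCat.{u}} [IsDomain R] [IsPrincipalIdealRing R] {P : Scheme.{u}}
    (g : P ⟶ Spec R) (M : P.Modules) [Coh.IsQCoh M]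
    (h : ∀ (U : P.Opens), IsAffineOpen U → ∀ r : Γ(Spec R, ⊤), r ≠ 0 → ∀ m : Γ(M, U),
      g.appLE ⊤ U le_top r • m = 0 → m = 0) :
    FlatMod.IsFlatOver g M := by
  intro x
  obtain ⟨U, hU, hxU, -⟩ := Opens.isBasis_iff_nbhd.mp P.isBasis_affineOpens (Opens.mem_top x)
  refine (EGA43.QcohFlat.isFlatOverAt_iff g M (isAffineOpen_top (Spec R)) hU le_top hxU).2 ?_
  let e : R ≃+* Γ(Spec R, ⊤) := (Scheme.ΓSpecIso R).commRingCatIsoToRingEquiv.symm
  haveI : IsDomain Γ(Spec R, ⊤) := e.symm.toMulEquiv.isDomain R
  haveI : IsPrincipalIdealRing Γ(Spec R, ⊤) := IsPrincipalIdealRing.of_surjective e.toRingHom e.surjective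
  let _ := (g.appLE ⊤ U le_top).hom.toAlgebra
  let _ := EGA43.QcohFlat.overModule g M ⊤ U le_top
  haveI : IsScalarTower Γ(Spec R, ⊤) Γ(P, U) Γ(M, U) := IsScalarTower.of_algebraMap_smul fun _ _ => rfl
  rw [Module.Flat.flat_iff_torsion_eq_bot_of_isBezout, eq_bot_iff]
  intro z hz
  obtain ⟨⟨r, hr⟩, hrz⟩ := (Submodule.mem_torsion_iff z).1 hz
  induction z using LocalizedModule.induction_on with
  | h m s =>
    rw [Submonoid.mk_smul, LocalizedModule.smul'_mk, ← LocalizedModule.zero_mk s, LocalizedModule.mk_eq] at hrz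
    obtain ⟨t, ht⟩ := hrz
    rw [Submodule.mem_bot, ← LocalizedModule.zero_mk s, LocalizedModule.mk_eq]
    simp only [smul_zero, Submonoid.smul_def] at ht
    refine ⟨t, ?_⟩
    simp only [smul_zero, Submonoid.smul_def]
    refine h U hU r (nonZeroDivisors.ne_zero hr) _ ?_
    rw [smul_comm, smul_comm (g.appLE ⊤ U le_top r)]
    exact ht

theorem isFinLocFree_free (P : Scheme.{u}) (N : ℕ) : FlatMod.IsFinLocFree (FlatMod.freeMod P N) := fun x =>
  ⟨⊤, N, trivial, ⟨(Scheme.Modules.restrictFunctorIsoPullback (⊤ : P.Opens).ι).app _ ≪≫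
    (DCat.PerfTensor.nonempty_pullback_free (⊤ : P.Opens).ι N).some⟩⟩

theorem isFT_free (P : Scheme.{u}) (N : ℕ) : CohB1.IsFT (FlatMod.freeMod P N) := by
  haveI := DCat.PullPerf.isQCoh_of_finLocFree (isFinLocFree_free P N)
  haveI : CohB1.IsFP (FlatMod.freeMod P N) := Props12.isFP_of_isFinLocFree _ (isFinLocFree_free P N)
  infer_instance

/-- A coherent quotient of a free module on the generic fibre extends to a flat coherent quotient. -/
theorem exists_flat_quotient_extension {R : Type u} [CommRing R] [IsDomain R] [IsDiscreteValuationRing R]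
    {P : Scheme.{u}} (g : P ⟶ Spec (CommRingCat.of R)) [LocallyOfFiniteType g] (N : ℕ)
    (F : (pullback g (Spec.map (CommRingCat.ofHom (algebraMap R (FractionRing R))))).Modules)
    [Coh.IsQCoh F] (q : FlatMod.freeMod _ N ⟶ F) [Epi q] :
    ∃ (F' : P.Modules) (q' : FlatMod.freeMod P N ⟶ F'),
      Coh.IsCoh F' ∧ Epi q' ∧ FlatMod.IsFlatOver g F' ∧
      Nonempty ((Scheme.Modules.pullback
        (pullback.fst g (Spec.map (CommRingCat.ofHom (algebraMap R (FractionRing R)))))).obj F' ≅ F) := by
  let a := Spec.map (CommRingCat.ofHom (algebraMap R (FractionRing R)))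
  haveI : IsOpenImmersion a := isOpenImmersion_fractionRing R
  let j := pullback.fst g a
  haveI : IsOpenImmersion j := inferInstance
  haveI : QuasiCompact j := MorphismProperty.pullback_fst g a (inferInstance : QuasiCompact a)
  haveI : QuasiSeparated j := inferInstance
  have hfree := DCat.PullPerf.isQCoh_of_finLocFree (isFinLocFree_free P N)
  haveI := hfree
  haveI := Coherent.isQCoh_push j F
  let adj := Scheme.Modules.restrictAdjunction j
  let e : (Scheme.Modules.restrictFunctor j).obj (FlatMod.freeMod P N) ≅ FlatMod.freeMod _ N :=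
    (Scheme.Modules.restrictFunctorIsoPullback j).app _ ≪≫ (DCat.PerfTensor.nonempty_pullback_free j N).some
  let φ : FlatMod.freeMod P N ⟶ (Scheme.Modules.pushforward j).obj F := adj.homEquiv _ _ (e.hom ≫ q)
  haveI := Coherent.isQCoh_image φ
  have hcomp : ((Scheme.Modules.restrictFunctor j).map (Abelian.factorThruImage φ)) ≫
      ((Scheme.Modules.restrictFunctor j).map (Abelian.image.ι φ) ≫ adj.counit.app F) = e.hom ≫ q := by
    rw [← Category.assoc, ← Functor.map_comp, Abelian.image.fac]
    refine (adj.homEquiv_counit _ _ _).symm.trans ?_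
    exact Equiv.symm_apply_apply _ _
  have hft : CohB1.IsFT (Abelian.image φ) :=
    Coherent.isFT_of_epi (Abelian.factorThruImage φ) (isFT_free P N)
  refine ⟨Abelian.image φ, Abelian.factorThruImage φ, ⟨inferInstance, hft⟩, inferInstance, ?_, ?_⟩
  · refine isFlatOver_of_forall_smul (R := CommRingCat.of R) g _ fun U hU r hr m hm => ?_
    have hinj := ModStalk.app_injective_of_mono (Abelian.image.ι φ) U
    refine hinj ?_
    rw [map_zero]
    have h1 := congrArg ((Abelian.image.ι φ).app U) hm
    rw [Scheme.Modules.Hom.app_smul, map_zero] at h1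
    -- `r` is a unit on the generic fibre
    have hu : IsUnit (j.app U (g.appLE ⊤ U le_top r)) := by
      have hm : g.appLE ⊤ U le_top ≫ j.app U =
          a.app ⊤ ≫ (pullback.snd g a).appLE (a ⁻¹ᵁ ⊤) (j ⁻¹ᵁ U) le_top := by
        rw [Scheme.Hom.app_eq_appLE j, Scheme.Hom.appLE_comp_appLE, Scheme.Hom.app_eq_appLE a,
          Scheme.Hom.appLE_comp_appLE]
        simp only [pullback.condition, j]
      have h2 : j.app U (g.appLE ⊤ U le_top r) =
          (pullback.snd g a).appLE ⊤ (j ⁻¹ᵁ U) le_top (a.app ⊤ r) :=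
        congrArg (fun k => k r) hm
      rw [h2]
      refine IsUnit.map _ ?_
      have h3 : (Scheme.ΓSpecIso (CommRingCat.of (FractionRing R))).hom (a.app ⊤ r) =
          algebraMap R (FractionRing R) ((Scheme.ΓSpecIso (CommRingCat.of R)).hom r) := by
        exact congrArg (fun k => k r) (Scheme.ΓSpecIso_naturality (CommRingCat.ofHom (algebraMap R (FractionRing R))))
      have hu3 : IsUnit ((Scheme.ΓSpecIso (CommRingCat.of (FractionRing R))).hom (a.app ⊤ r)) := by
        rw [h3]
        refine isUnit_iff_ne_zero.2 ((map_ne_zero_iff _ (IsFractionRing.injective R (FractionRing R))).2 ?_)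
        exact (map_ne_zero_iff _ (Scheme.ΓSpecIso (CommRingCat.of R)).commRingCatIsoToRingEquiv.injective).2 hr
      exact (isUnit_map_iff (Scheme.ΓSpecIso (CommRingCat.of (FractionRing R))).commRingCatIsoToRingEquiv _).1 hu3
    let v : Γ(F, j ⁻¹ᵁ U) := (Abelian.image.ι φ).app U m
    have h4 : j.app U (g.appLE ⊤ U le_top r) • v = 0 := h1
    have h5 : v = 0 := (hu.smul_eq_zero (x := v)).1 h4
    exact h5
  · let h := (Scheme.Modules.restrictFunctor j).map (Abelian.image.ι φ) ≫ adj.counit.app F
    haveI : Epi (e.hom ≫ q) := epi_comp _ _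
    haveI : Epi h := epi_of_epi_fac hcomp
    haveI : Mono h := mono_comp _ _
    haveI : IsIso h := isIso_of_mono_of_epi h
    exact ⟨((Scheme.Modules.restrictFunctorIsoPullback j).app _).symm ≪≫ asIso h⟩

end Groth.Agent.H8Res
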