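import Groth.Agent.DCat.TensorAssoc
import Groth.Agent.DCat.PerfTensor
import Groth.Agent.DCat.PullPerf
import Groth.Agent.Thick15.Sequence

/-!
# Tensor products, pullbacks and coproducts of modules on schemes
-/

set_option autoImplicit false
set_option maxHeartbeats 1600000
set_option backward.isDefEq.respectTransparency.types false
set_option backward.defeqAttrib.useBackward true
set_option linter.style.haveILetI false

universe u

open CategoryTheory CategoryTheory.Limits AlgebraicGeometry MonoidalCategory Groth.Agent.ModStalk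

namespace Groth.Agent.H8Res

variable {X : Scheme.{u}}

/-- `M ⊗ -` preserves small coproducts. -/
theorem preservesCoproducts_tensor (M : X.Modules) (J : Type u) :
    PreservesColimitsOfShape (Discrete J) ((DCoh.tensorBi (X := X)).obj M) := by
  have hs : ∀ x : X, PreservesColimitsOfShape (Discrete J) (DerSch.stalkFunctor X x) := fun x =>
    haveI := (stalkAdj x).leftAdjoint_preservesColimits (F := DerSch.stalkFunctor X x)
    inferInstance
  let F := (DCoh.tensorBi (X := X)).obj M
  have h : ∀ x : X, PreservesColimitsOfShape (Discrete J) (F ⋙ DerSch.stalkFunctor X x) := fun x =>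
    haveI := hs x
    preservesColimitsOfShape_of_natIso (NatIso.ofComponents (fun N => (stalkTensorIso x M N).symm)
      (fun {N N'} g => by
        rw [Iso.symm_hom, Iso.symm_hom, Iso.eq_inv_comp, ← Category.assoc, Iso.comp_inv_eq]
        exact (DCat.stalkTensor_nat₂ x M g).symm) :
      DerSch.stalkFunctor X x ⋙ tensorLeft ((DerSch.stalkFunctor X x).obj M) ≅
        F ⋙ DerSch.stalkFunctor X x)
  refine ⟨fun {D} => ⟨fun {c} hc => ⟨?_⟩⟩⟩
  haveI : IsIso ((colimit.isColimit (D ⋙ F)).desc (F.mapCocone c)) := isIso_of_stalks _ fun x => by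
    haveI := h x
    haveI := hs x
    let h₁ := isColimitOfPreserves (DerSch.stalkFunctor X x) (colimit.isColimit (D ⋙ F))
    let h₂ : IsColimit ((DerSch.stalkFunctor X x).mapCocone (F.mapCocone c)) :=
      isColimitOfPreserves (F ⋙ DerSch.stalkFunctor X x) hc
    rw [show (DerSch.stalkFunctor X x).map ((colimit.isColimit (D ⋙ F)).desc (F.mapCocone c)) =
        (h₁.coconePointUniqueUpToIso h₂).hom from h₁.hom_ext fun j => by
      rw [h₁.comp_coconePointUniqueUpToIso_hom h₂ j]
      exact ((DerSch.stalkFunctor X x).map_comp _ _).symm.trans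
        (congrArg (DerSch.stalkFunctor X x).map ((colimit.isColimit (D ⋙ F)).fac (F.mapCocone c) j))]
    infer_instance
  exact IsColimit.ofPointIso (colimit.isColimit (D ⋙ F)) (t := F.mapCocone c)

/-- `M ⊗ -` preserves epimorphisms. -/
theorem epi_tensor_map (M : X.Modules) {N N' : X.Modules} (g : N ⟶ N') [Epi g] :
    Epi (((DCoh.tensorBi (X := X)).obj M).map g) := by
  refine Thick15.epi_of_stalks _ fun x => (ModuleCat.epi_iff_surjective _).1 ?_
  have h := DCat.stalkTensor_nat₂ x M g
  rw [← Iso.eq_comp_inv] at h
  rw [h]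
  have h1 : Epi ((DerSch.stalkFunctor X x).map g) :=
    haveI := (stalkAdj x).leftAdjoint_preservesColimits (F := DerSch.stalkFunctor X x)
    (DerSch.stalkFunctor X x).map_epi g
  haveI : Epi ((tensorLeft ((DerSch.stalkFunctor X x).obj M)).map ((DerSch.stalkFunctor X x).map g)) :=
    (ModuleCat.epi_iff_surjective _).2 (LinearMap.lTensor_surjective _ ((ModuleCat.epi_iff_surjective _).1 h1))
  exact inferInstance

end Groth.Agent.H8Res
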