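import Mathlib.RingTheory.Ideal.Height
import Mathlib.RingTheory.Localization.AtPrime.Basic
import Mathlib.RingTheory.Ideal.AssociatedPrime.Basic
import Mathlib.Algebra.Module.FinitePresentation
import Mathlib.Algebra.Module.LocalizedModule.Exact
import Mathlib.LinearAlgebra.Dimension.StrongRankCondition
import Mathlib.LinearAlgebra.Matrix.Determinant.Basic
import Mathlib.RingTheory.LocalRing.ResidueField.Ideal
import Mathlib.RingTheory.Noetherian.Basic
import Mathlib.LinearAlgebra.FiniteDimensional.Lemmas

/-!
# Basic elements in modules free at the primes of height at most `k`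
-/

set_option autoImplicit false
set_option linter.style.haveILetI false

universe u

open Module Submodule

namespace Groth.Agent.H8Res.BasicElement

variable {A : Type u} [CommRing A] [IsNoetherianRing A] {M : Type u} [AddCommGroup M] [Module A M]
  [Module.Finite A M] {k r : ℕ}

/-- A choice of coordinates at every prime of height at most `k`. -/
structure Coords (A : Type u) [CommRing A] (M : Type u) [AddCommGroup M] [Module A M] (k r : ℕ) where
  c : ∀ p : PrimeSpectrum A, p.asIdeal.height ≤ k → M →ₗ[A] (Fin r → Localization.AtPrime p.asIdeal)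
  loc : ∀ p hp, IsLocalizedModule p.asIdeal.primeCompl (c p hp)

theorem exists_coords (hM : ∀ p : PrimeSpectrum A, p.asIdeal.height ≤ k →
    Nonempty (LocalizedModule p.asIdeal.primeCompl M ≃ₗ[Localization.AtPrime p.asIdeal]
      (Fin r → Localization.AtPrime p.asIdeal))) : Nonempty (Coords A M k r) :=
  ⟨{ c := fun p hp => ((hM p hp).some.restrictScalars A).toLinearMap ∘ₗ LocalizedModule.mkLinearMap p.asIdeal.primeCompl M
     loc := fun p hp => IsLocalizedModule.of_linearEquiv _ _ _ }⟩

theorem height_eq_toNat {p : PrimeSpectrum A} (hp : p.asIdeal.height ≤ k) :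
    (p.asIdeal.height.toNat : ℕ∞) = p.asIdeal.height ∧ p.asIdeal.height.toNat ≤ k := by
  have h : p.asIdeal.height ≠ ⊤ := ne_top_of_le_ne_top (ENat.coe_ne_top k) hp
  refine ⟨ENat.coe_toNat h, ?_⟩
  rw [← ENat.coe_toNat h] at hp
  exact_mod_cast hp

theorem toNat_lt {p q : PrimeSpectrum A} (hp : p.asIdeal.height ≤ k) (h : q.asIdeal < p.asIdeal) :
    ∃ hq : q.asIdeal.height ≤ k, q.asIdeal.height.toNat < p.asIdeal.height.toNat := by
  have hq : q.asIdeal.height ≤ k := (Ideal.height_mono h.le).trans hp
  refine ⟨hq, ?_⟩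
  haveI : p.asIdeal.FiniteHeight := ⟨Or.inr (hp.trans_lt (ENat.coe_lt_top k)).ne⟩
  haveI : q.asIdeal.FiniteHeight := ⟨Or.inr (hq.trans_lt (ENat.coe_lt_top k)).ne⟩
  have := Ideal.height_strict_mono_of_isPrime_of_isPrime h
  rw [← (height_eq_toNat hp).1, ← (height_eq_toNat hq).1] at this
  exact_mod_cast this

namespace Coords

variable (C : Coords A M k r) (p : PrimeSpectrum A) (hp : p.asIdeal.height ≤ k)

/-- The residual coordinates. -/
noncomputable def res : M →ₗ[A] (Fin r → p.asIdeal.ResidueField) :=
  ((IsScalarTower.toAlgHom A (Localization.AtPrime p.asIdeal) p.asIdeal.ResidueField).toLinearMap.compLeft (Fin r)) ∘ₗ C.c p hp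

theorem res_apply (m : M) (j : Fin r) :
    C.res p hp m j = algebraMap (Localization.AtPrime p.asIdeal) p.asIdeal.ResidueField (C.c p hp m j) := rfl

/-- The rank of the residual images. -/
noncomputable def rk {n : ℕ} (v : Fin n → M) : ℕ :=
  finrank p.asIdeal.ResidueField (span p.asIdeal.ResidueField (Set.range (C.res p hp ∘ v)))

theorem rk_of_span {n : ℕ} (v : Fin n → M) (hv : span A (Set.range v) = ⊤) : C.rk p hp v = r := by
  have hloc := C.loc p hp
  have htop : span p.asIdeal.ResidueField (Set.range (C.res p hp ∘ v)) = ⊤ := by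
    rw [eq_top_iff]
    intro x _
    choose y hy using fun j => Ideal.Quotient.mk_surjective (I := IsLocalRing.maximalIdeal (Localization.AtPrime p.asIdeal)) (x j)
    obtain ⟨⟨m, s⟩, hms⟩ := IsLocalizedModule.surj p.asIdeal.primeCompl (C.c p hp) y
    have hm : C.res p hp m ∈ span p.asIdeal.ResidueField (Set.range (C.res p hp ∘ v)) := by
      have : C.res p hp m ∈ Submodule.map (C.res p hp) (span A (Set.range v)) := ⟨m, hv ▸ mem_top, rfl⟩
      rw [Submodule.map_span, ← Set.range_comp] at this
      exact span_le_restrictScalars A p.asIdeal.ResidueField _ this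
    have hs : algebraMap A p.asIdeal.ResidueField s ≠ 0 := fun h => s.2 (Ideal.algebraMap_residueField_eq_zero.1 h)
    have hx : C.res p hp m = algebraMap A p.asIdeal.ResidueField s • x := by
      funext j
      rw [res_apply, ← hms, Pi.smul_apply, Pi.smul_apply, Submonoid.smul_def, Algebra.smul_def, map_mul,
        ← IsScalarTower.algebraMap_apply, smul_eq_mul, ← hy j]
      rfl
    rw [hx] at hm
    have := smul_mem _ (algebraMap A p.asIdeal.ResidueField s)⁻¹ hm
    rwa [smul_smul, inv_mul_cancel₀ hs, one_smul] at this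
  rw [rk, htop, finrank_top, finrank_fin_fun]

theorem card_le_rk {n t : ℕ} (v : Fin n → M) (ι : Fin t → Fin n)
    (h : LinearIndependent p.asIdeal.ResidueField fun i => C.res p hp (v (ι i))) : t ≤ C.rk p hp v := by
  have := (finrank_span_eq_card h).symm.le.trans
    (finrank_mono (span_mono (R := p.asIdeal.ResidueField) (Set.range_comp_subset_range ι (C.res p hp ∘ v))))
  simpa [rk] using this

theorem exists_indep_of_lt_rk {n t : ℕ} (v : Fin n → M) (h : t < C.rk p hp v) :
    ∃ ι : Fin (t + 1) → Fin n, LinearIndependent p.asIdeal.ResidueField fun i => C.res p hp (v (ι i)) := by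
  obtain ⟨f, hf, -, hind⟩ := exists_fun_fin_finrank_span_eq p.asIdeal.ResidueField (Set.range (C.res p hp ∘ v))
  choose ι hι using hf
  refine ⟨ι ∘ Fin.castLE h, ?_⟩
  have h2 := hind.comp _ (Fin.castLE_injective h)
  exact (show (fun i => C.res p hp (v ((ι ∘ Fin.castLE h) i))) = f ∘ Fin.castLE h from funext fun i => hι _) ▸ h2

/-- Every functional factors residually through the coordinates. -/
theorem exists_factor (g : M →ₗ[A] A) :
    ∃ L : (Fin r → p.asIdeal.ResidueField) →ₗ[p.asIdeal.ResidueField] p.asIdeal.ResidueField,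
      ∀ m, algebraMap A p.asIdeal.ResidueField (g m) = L (C.res p hp m) := by
  haveI := C.loc p hp
  let g₁ := IsLocalizedModule.lift p.asIdeal.primeCompl (C.c p hp)
    (Algebra.linearMap A (Localization.AtPrime p.asIdeal) ∘ₗ g)
    (IsLocalizedModule.map_units (Algebra.linearMap A (Localization.AtPrime p.asIdeal)))
  let g' := g₁.extendScalarsOfIsLocalization p.asIdeal.primeCompl (Localization.AtPrime p.asIdeal)
  refine ⟨∑ j : Fin r, (LinearMap.proj j : (Fin r → p.asIdeal.ResidueField) →ₗ[p.asIdeal.ResidueField] p.asIdeal.ResidueField).smulRight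
    (algebraMap _ _ (g' (Pi.single j 1))), fun m => ?_⟩
  have h1 : g' (C.c p hp m) = algebraMap A (Localization.AtPrime p.asIdeal) (g m) := by
    show g₁ (C.c p hp m) = _
    simp [g₁]
  rw [IsScalarTower.algebraMap_apply A (Localization.AtPrime p.asIdeal), ← h1, pi_eq_sum_univ' (C.c p hp m)]
  simp only [map_sum, LinearMap.sum_apply]
  refine Finset.sum_congr rfl fun j _ => ?_
  rw [map_smul, smul_eq_mul, map_mul, LinearMap.smulRight_apply, LinearMap.proj_apply, smul_eq_mul, res_apply]

/-- Independence of residual images is an open condition. -/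
theorem exists_notMem_indep {t : ℕ} (w : Fin t → M)
    (h : LinearIndependent p.asIdeal.ResidueField fun i => C.res p hp (w i)) :
    ∃ D ∉ p.asIdeal, ∀ (q : PrimeSpectrum A) (hq : q.asIdeal.height ≤ k), D ∉ q.asIdeal →
      LinearIndependent q.asIdeal.ResidueField fun i => C.res q hq (w i) := by
  classical
  let b := Basis.span h
  have hex : ∀ i, ∃ l : (Fin r → p.asIdeal.ResidueField) →ₗ[p.asIdeal.ResidueField] p.asIdeal.ResidueField,
      ∀ j, l (C.res p hp (w j)) = if i = j then 1 else 0 := fun i => by
    obtain ⟨l, hl⟩ := LinearMap.exists_extend (b.coord i)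
    refine ⟨l, fun j => ?_⟩
    have := LinearMap.congr_fun hl (b j)
    rw [LinearMap.comp_apply, Basis.coord_apply, Basis.repr_self, Finsupp.single_apply] at this
    refine ((congrArg l (congrArg Subtype.val (Basis.span_apply h j)).symm).trans this).trans ?_
    exact if_congr eq_comm rfl rfl
  choose l hl using hex
  choose x hx using fun (i : Fin t) (j : Fin r) =>
    Ideal.Quotient.mk_surjective (I := IsLocalRing.maximalIdeal (Localization.AtPrime p.asIdeal)) (l i (Pi.single j 1))
  let H : Fin t → M →ₗ[A] Localization.AtPrime p.asIdeal := fun i =>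
    (∑ j, (LinearMap.lsmul (Localization.AtPrime p.asIdeal) (Localization.AtPrime p.asIdeal) (x i j)).restrictScalars A ∘ₗ
      LinearMap.proj j) ∘ₗ C.c p hp
  haveI := Module.finitePresentation_of_finite A M
  choose g s hg using fun i => Module.FinitePresentation.exists_lift_of_isLocalizedModule p.asIdeal.primeCompl
    (Algebra.linearMap A (Localization.AtPrime p.asIdeal)) (H i)
  refine ⟨(Matrix.of fun i j => g i (w j)).det, ?_, fun q hq hD => ?_⟩
  · intro hD
    have hmat : (algebraMap A p.asIdeal.ResidueField).mapMatrix (Matrix.of fun i j => g i (w j)) =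
        Matrix.diagonal fun i => algebraMap A p.asIdeal.ResidueField (s i : A) := by
      ext i j
      have h1 := LinearMap.congr_fun (hg i) (w j)
      rw [LinearMap.comp_apply, LinearMap.smul_apply, Submonoid.smul_def, Algebra.smul_def, Algebra.linearMap_apply] at h1
      show algebraMap A _ (g i (w j)) = _
      rw [IsScalarTower.algebraMap_apply A (Localization.AtPrime p.asIdeal), h1, map_mul,
        ← IsScalarTower.algebraMap_apply]
      have h2 : algebraMap (Localization.AtPrime p.asIdeal) p.asIdeal.ResidueField (H i (w j)) =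
          l i (C.res p hp (w j)) := by
        conv_rhs => rw [pi_eq_sum_univ' (C.res p hp (w j)), map_sum]
        simp only [H, LinearMap.comp_apply, LinearMap.sum_apply, map_sum]
        refine Finset.sum_congr rfl fun a _ => ?_
        rw [map_smul, res_apply]
        simp only [LinearMap.restrictScalars_apply, LinearMap.lsmul_apply, LinearMap.proj_apply, smul_eq_mul, map_mul]
        rw [mul_comm]
        exact congrArg (_ * ·) (hx i a)
      rw [h2, hl, Matrix.diagonal_apply]
      split <;> simp
    have := congrArg Matrix.det hmat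
    rw [← RingHom.map_det, Ideal.algebraMap_residueField_eq_zero.2 hD, Matrix.det_diagonal, eq_comm,
      Finset.prod_eq_zero_iff] at this
    obtain ⟨i, -, hi⟩ := this
    exact (s i).2 (Ideal.algebraMap_residueField_eq_zero.1 hi)
  · haveI := C.loc q hq
    choose L hL using fun i => C.exists_factor q hq (g i)
    refine LinearIndependent.of_comp (LinearMap.pi L) ?_
    have hu : IsUnit ((algebraMap A q.asIdeal.ResidueField).mapMatrix (Matrix.of fun i j => g i (w j))) := by
      rw [Matrix.isUnit_iff_isUnit_det, ← RingHom.map_det]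
      exact isUnit_iff_ne_zero.2 fun h => hD (Ideal.algebraMap_residueField_eq_zero.1 h)
    refine (congrArg (fun f : Fin t → Fin t → q.asIdeal.ResidueField => LinearIndependent q.asIdeal.ResidueField f) (funext fun j => funext fun i => ?_)).mp (Matrix.linearIndependent_cols_iff_isUnit.2 hu)
    exact hL i (w j)

/-- The primes where the rank first drops to `t` are finite in number. -/
theorem finite_minimal {n : ℕ} (v : Fin n → M) (t : ℕ) :
    {p : PrimeSpectrum A | ∃ hp : p.asIdeal.height ≤ k, C.rk p hp v ≤ t ∧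
      ∀ (q : PrimeSpectrum A) (hq : q.asIdeal.height ≤ k), q.asIdeal < p.asIdeal → t < C.rk q hq v}.Finite := by
  suffices h : ∀ I : Ideal A, {p : PrimeSpectrum A | I ≤ p.asIdeal ∧ ∃ hp : p.asIdeal.height ≤ k, C.rk p hp v ≤ t ∧
      ∀ (q : PrimeSpectrum A) (hq : q.asIdeal.height ≤ k), q.asIdeal < p.asIdeal → t < C.rk q hq v}.Finite from
    (h ⊥).subset fun p hp => ⟨bot_le, hp⟩
  intro I
  induction I using WellFoundedGT.induction with
  | _ I ih =>
    by_cases hI : I.IsPrime
    · by_cases hY : I.height ≤ k
      · let q : PrimeSpectrum A := ⟨I, hI⟩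
        by_cases hR : C.rk q hY v ≤ t
        · refine (Set.finite_singleton q).subset ?_
          rintro p ⟨hle, hp, -, hmin⟩
          rcases hle.lt_or_eq with h | h
          · exact absurd (hmin q hY h) (not_lt.2 hR)
          · exact PrimeSpectrum.ext h.symm
        · obtain ⟨ι, hι⟩ := C.exists_indep_of_lt_rk q hY v (not_le.1 hR)
          obtain ⟨D, hD, hopen⟩ := C.exists_notMem_indep q hY _ hι
          refine (ih (I ⊔ Ideal.span {D}) (left_lt_sup.2 fun h => hD (h (Ideal.mem_span_singleton_self D)))).subset ?_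
          rintro p ⟨hle, hp, hR', hmin⟩
          refine ⟨sup_le hle ((Ideal.span_singleton_le_iff_mem _).2 ?_), hp, hR', hmin⟩
          by_contra hDp
          have := C.card_le_rk p hp v ι (hopen p hp hDp)
          omega
      · refine Set.finite_empty.subset ?_
        rintro p ⟨hle, hp, -⟩
        exact hY ((Ideal.height_mono hle).trans hp)
    · by_cases htop : I = ⊤
      · refine Set.finite_empty.subset ?_
        rintro p ⟨hle, -⟩
        exact p.isPrime.ne_top (top_le_iff.1 (htop ▸ hle))
      · obtain ⟨a, ha, b, hb, hab⟩ : ∃ a ∉ I, ∃ b ∉ I, a * b ∈ I := by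
          rw [Ideal.not_isPrime_iff] at hI
          obtain h | ⟨a, ha, b, hb, hab⟩ := hI
          · exact absurd h htop
          · exact ⟨a, ha, b, hb, hab⟩
        refine ((ih (I ⊔ Ideal.span {a}) (left_lt_sup.2 fun h => ha (h (Ideal.mem_span_singleton_self a)))).union
          (ih (I ⊔ Ideal.span {b}) (left_lt_sup.2 fun h => hb (h (Ideal.mem_span_singleton_self b))))).subset ?_
        rintro p ⟨hle, hp⟩
        rcases p.isPrime.mem_or_mem (hle hab) with h | h
        · exact Or.inl ⟨sup_le hle ((Ideal.span_singleton_le_iff_mem _).2 h), hp⟩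
        · exact Or.inr ⟨sup_le hle ((Ideal.span_singleton_le_iff_mem _).2 h), hp⟩

/-- The property preserved while reducing the number of elements. -/
def Fine {n : ℕ} (v : Fin n → M) : Prop :=
  ∀ (p : PrimeSpectrum A) (hp : p.asIdeal.height ≤ k), min n (k - p.asIdeal.height.toNat + 1) ≤ C.rk p hp v

omit [IsNoetherianRing A] [Module.Finite A M] in
theorem exists_avoid {n : ℕ} (S : Finset (PrimeSpectrum A)) (c : ∀ p : PrimeSpectrum A, Fin (n + 1) → p.asIdeal.ResidueField)
    (hc : ∀ p ∈ S, c p ≠ 0) :
    ∃ a : Fin n → A, ∀ p ∈ S, ∑ i, c p i.castSucc * algebraMap A p.asIdeal.ResidueField (a i) ≠ c p (Fin.last n) := by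
  classical
  induction S using Finset.strongInduction with
  | H S ih =>
    rcases S.eq_empty_or_nonempty with rfl | hne
    · exact ⟨0, by simp⟩
    obtain ⟨p, hpS, hmin⟩ := S.exists_minimal hne
    obtain ⟨a, ha⟩ := ih (S.erase p) (Finset.erase_ssubset hpS) fun q hq => hc q (Finset.mem_of_mem_erase hq)
    by_cases hgood : ∑ i, c p i.castSucc * algebraMap A p.asIdeal.ResidueField (a i) ≠ c p (Fin.last n)
    · refine ⟨a, fun q hq => ?_⟩
      rcases eq_or_ne q p with rfl | h
      · exact hgood
      · exact ha q (Finset.mem_erase.2 ⟨h, hq⟩)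
    rw [not_not] at hgood
    obtain ⟨i₀, hi₀⟩ : ∃ i : Fin n, c p i.castSucc ≠ 0 := by
      by_contra h
      push_neg at h
      refine hc p hpS (funext fun i => ?_)
      cases i using Fin.lastCases with
      | last => rw [← hgood]; simp [h]
      | cast i => exact h i
    have hsep : ∀ q ∈ S.erase p, ∃ x ∈ q.asIdeal, x ∉ p.asIdeal := fun q hq => by
      obtain ⟨hne', hqS⟩ := Finset.mem_erase.1 hq
      refine SetLike.not_le_iff_exists.1 fun hle => hne' (le_antisymm hle (hmin hqS hle))
    choose! x hxq hxp using hsep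
    let s := ∏ q ∈ S.erase p, x q
    have hs : s ∉ p.asIdeal := fun h => by
      obtain ⟨q, hq, hq'⟩ := p.isPrime.prod_mem_iff.1 h
      exact hxp q hq hq'
    refine ⟨a + Pi.single i₀ s, fun q hq => ?_⟩
    rcases eq_or_ne q p with rfl | h
    · simp only [Pi.add_apply, map_add, mul_add, Finset.sum_add_distrib, hgood]
      rw [Finset.sum_eq_single i₀ (fun j _ hj => by simp [hj]) (by simp), Pi.single_eq_same]
      intro h
      rw [add_eq_left, mul_eq_zero, Ideal.algebraMap_residueField_eq_zero] at h
      exact h.elim hi₀ hs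
    · have hq' := Finset.mem_erase.2 ⟨h, hq⟩
      have hsq : s ∈ q.asIdeal := q.asIdeal.mem_of_dvd (Finset.dvd_prod_of_mem _ hq') (hxq q hq')
      have : ∀ i, algebraMap A q.asIdeal.ResidueField ((a + (Pi.single i₀ s : Fin n → A)) i) = algebraMap A q.asIdeal.ResidueField (a i) := fun i => by
        rcases eq_or_ne i i₀ with rfl | hi
        · simp [Ideal.algebraMap_residueField_eq_zero.2 hsq]
        · simp [hi]
      simp only [this]
      exact ha q hq'

theorem fine_step {n : ℕ} (v : Fin (n + 1) → M) (hv : C.Fine v) :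
    ∃ w : Fin n → M, C.Fine w := by
  classical
  let bad : Set (PrimeSpectrum A) := {p | ∃ hp : p.asIdeal.height ≤ k,
    C.rk p hp v ≤ n ∧ C.rk p hp v ≤ k - p.asIdeal.height.toNat + 1}
  have hfin : bad.Finite := by
    refine ((Finset.range (k + 2)).finite_toSet.biUnion fun t _ => C.finite_minimal v t).subset ?_
    rintro p ⟨hp, hn, ht⟩
    have := hv p hp
    refine Set.mem_biUnion (x := C.rk p hp v) (by simp only [Finset.coe_range, Set.mem_Iio]; omega) ⟨hp, le_rfl, fun q hq hlt => ?_⟩
    obtain ⟨hq', hlt'⟩ := toNat_lt hp hlt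
    have := hv q hq
    have := (height_eq_toNat hp).2
    omega
  have hrel : ∀ p ∈ bad, ∃ c : Fin (n + 1) → p.asIdeal.ResidueField, c ≠ 0 ∧
      ∀ hp, ∑ i, c i • C.res p hp (v i) = 0 := by
    rintro p ⟨hp, hn, -⟩
    have : ¬ LinearIndependent p.asIdeal.ResidueField fun i => C.res p hp (v i) := fun h => by
      have := C.card_le_rk p hp v id h
      omega
    obtain ⟨g, hg, i, hi⟩ := Fintype.not_linearIndependent_iff.1 this
    exact ⟨g, fun h => hi (congrFun h i), fun _ => hg⟩
  choose! c hc0 hc using hrel
  obtain ⟨a, ha⟩ := exists_avoid hfin.toFinset c fun p hp => hc0 p (hfin.mem_toFinset.1 hp)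
  refine ⟨fun i => v i.castSucc + a i • v (Fin.last n), fun p hp => ?_⟩
  set w := fun i : Fin n => v i.castSucc + a i • v (Fin.last n)
  let K := p.asIdeal.ResidueField
  have hw : ∀ i, C.res p hp (v i.castSucc) = C.res p hp (w i) - algebraMap A K (a i) • C.res p hp (v (Fin.last n)) := fun i => by
    simp only [w, map_add, map_smul]
    rw [algebraMap_smul, add_sub_cancel_right]
  let W := span K (Set.range (C.res p hp ∘ w))
  have hsub : span K (Set.range (C.res p hp ∘ v)) ≤ W ⊔ span K {C.res p hp (v (Fin.last n))} := by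
    rw [span_le]
    rintro _ ⟨i, rfl⟩
    cases i using Fin.lastCases with
    | last => exact mem_sup_right (mem_span_singleton_self _)
    | cast i =>
      show C.res p hp (v i.castSucc) ∈ _
      rw [hw]
      exact sub_mem (mem_sup_left (subset_span ⟨i, rfl⟩)) (smul_mem _ _ (mem_sup_right (mem_span_singleton_self _)))
  have hv' := hv p hp
  have h1 : C.rk p hp v ≤ C.rk p hp w + 1 := by
    refine (finrank_mono hsub).trans ((finrank_add_le_finrank_add_finrank _ _).trans (Nat.add_le_add_left ?_ _))
    exact (finrank_span_le_card ({C.res p hp (v (Fin.last n))} : Set (Fin r → K))).trans (by simp)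
  by_cases hbad : p ∈ bad
  · have hgood := ha p (hfin.mem_toFinset.2 hbad)
    have hlast : C.res p hp (v (Fin.last n)) ∈ W := by
      have h := hc p hbad hp
      rw [Fin.sum_univ_castSucc] at h
      simp only [hw, smul_sub, smul_smul, Finset.sum_sub_distrib, ← Finset.sum_smul] at h
      have h' : (∑ i, c p i.castSucc * algebraMap A K (a i) - c p (Fin.last n)) • C.res p hp (v (Fin.last n)) =
          ∑ i, c p i.castSucc • C.res p hp (w i) := by
        rw [sub_smul, ← sub_eq_zero, ← neg_eq_zero]
        refine Eq.trans ?_ h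
        abel
      have hmem : ∑ i, c p i.castSucc • C.res p hp (w i) ∈ W :=
        sum_mem fun i _ => smul_mem _ _ (subset_span ⟨i, rfl⟩)
      rw [← h'] at hmem
      have := smul_mem _ (∑ i, c p i.castSucc * algebraMap A K (a i) - c p (Fin.last n))⁻¹ hmem
      rwa [smul_smul, inv_mul_cancel₀ (sub_ne_zero.2 hgood), one_smul] at this
    have h2 : C.rk p hp v ≤ C.rk p hp w :=
      finrank_mono (hsub.trans (sup_le le_rfl ((span_singleton_le_iff_mem _ _).2 hlast)))
    omega
  · have : n < C.rk p hp v ∨ k - p.asIdeal.height.toNat + 1 < C.rk p hp v := by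
      by_contra h
      push_neg at h
      exact hbad ⟨hp, h.1, h.2⟩
    omega

/-- An element which is part of a basis at every prime of height at most `k`. -/
theorem exists_basic (hkr : k < r) : ∃ m : M, ∀ p hp, C.res p hp m ≠ 0 := by
  obtain ⟨n, v, hv⟩ := Module.Finite.exists_fin (R := A) (M := M)
  have main : ∀ n, ∀ v : Fin (n + 1) → M, C.Fine v → ∃ v : Fin 1 → M, C.Fine v := by
    intro n
    induction n with
    | zero => exact fun v hv => ⟨v, hv⟩
    | succ n ih => exact fun v hv => (C.fine_step v hv).elim fun w hw => ih w hw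
  have hsnoc : span A (Set.range (Fin.snoc v 0 : Fin (n + 1) → M)) = ⊤ := by
    refine eq_top_iff.2 (hv ▸ span_mono fun _ ⟨i, hi⟩ => ⟨i.castSucc, ?_⟩)
    rw [Fin.snoc_castSucc, hi]
  obtain ⟨w, hw⟩ := main n (Fin.snoc v 0) fun p hp => by
    rw [C.rk_of_span p hp _ hsnoc]
    omega
  refine ⟨w 0, fun p hp h => ?_⟩
  have h1 := hw p hp
  have : C.rk p hp w = 0 := by
    rw [rk, finrank_eq_zero, span_eq_bot]
    rintro _ ⟨i, rfl⟩
    rw [Subsingleton.elim i 0]
    exact h
  omega

end Coords

/-- The quotient of a free module over a local ring by a vector which is nonzero residually is free. -/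
theorem exists_surjective_ker_span {R : Type u} [CommRing R] [IsLocalRing R] {d : ℕ} (x : Fin (d + 1) → R)
    (j : Fin (d + 1)) (hj : IsUnit (x j)) :
    ∃ f : (Fin (d + 1) → R) →ₗ[R] (Fin d → R), Function.Surjective f ∧ LinearMap.ker f = span R {x} := by
  obtain ⟨u, hu⟩ := hj
  let f : (Fin (d + 1) → R) →ₗ[R] (Fin d → R) := LinearMap.pi fun i =>
    (LinearMap.proj (j.succAbove i) : (Fin (d + 1) → R) →ₗ[R] R) - (LinearMap.proj j : (Fin (d + 1) → R) →ₗ[R] R).smulRight ((↑u⁻¹ : R) * x (j.succAbove i))
  have hf : ∀ y i, f y i = y (j.succAbove i) - y j * ((↑u⁻¹ : R) * x (j.succAbove i)) := fun y i => rfl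
  refine ⟨f, fun z => ⟨Fin.insertNth j (0 : R) z, funext fun i => by rw [hf]; simp⟩, le_antisymm (fun y hy => ?_) ?_⟩
  · refine mem_span_singleton.2 ⟨y j * ↑u⁻¹, funext fun l => ?_⟩
    rcases Fin.eq_self_or_eq_succAbove j l with rfl | ⟨i, rfl⟩
    · simp [← hu, mul_assoc]
    · have := congrFun (LinearMap.mem_ker.1 hy) i
      rw [hf, Pi.zero_apply, sub_eq_zero] at this
      simp only [Pi.smul_apply, smul_eq_mul, this, mul_assoc]
  · rw [span_singleton_le_iff_mem, LinearMap.mem_ker]
    funext i
    rw [hf, ← hu, ← mul_assoc, Units.mul_inv, one_mul, sub_self, Pi.zero_apply]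

end Groth.Agent.H8Res.BasicElement
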